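import Groth.Agent.FlatMisc.SteinUC
import Groth.Agent.ZarConn.AppIso
import Groth.Agent.NeronHDLib.IntClosureNormal
import Groth.Agent.S0388

set_option autoImplicit false
set_option backward.isDefEq.respectTransparency false
set_option backward.isDefEq.respectTransparency.types false
universe u

open CategoryTheory CategoryTheory.Limits AlgebraicGeometry

namespace Groth.Agent.NormalH0

/-- A generic fibre without new functions over a normal base: no new functions at all. -/
theorem bijective_app_affine {X S : Scheme.{u}} (f : X ⟶ S) [IsProper f] [IsIntegral S] (hS : Pi1.IsNormalScheme S)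
    [IsReduced X]
    (hgen : ∀ Z ∈ irreducibleComponents ↑X, ∀ x : X, IsGenericPoint x Z → f x = genericPoint ↑S)
    (h0 : Function.Bijective ((f.fiberToSpecResidueField (genericPoint ↑S)).appTop))
    (U : S.Opens) (hU : IsAffineOpen U) [Nonempty U] : Function.Bijective (f.app U) := by
  let ξ := genericPoint ↑S
  have hξ : ξ ∈ U := ((genericPoint_spec S).mem_open_set_iff U.isOpen).2 (by simpa using Set.nonempty_coe_sort.1 ‹Nonempty U›)
  haveI : IsFractionRing Γ(S, U) S.functionField := functionField_isFractionRing_of_isAffineOpen S U hU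
  haveI : IsIntegrallyClosed Γ(S, U) := NeronHDLib.isIntegrallyClosed_sections hS U
  have hle : (⊤ : (f.fiber ξ).Opens) ≤ f.fiberι ξ ⁻¹ᵁ (f ⁻¹ᵁ U) := fun z _ => by
    show f (f.fiberι ξ z) ∈ U
    have : f.fiberι ξ z ∈ f ⁻¹' {ξ} := f.range_fiberι ξ ▸ Set.mem_range_self z
    rw [show f (f.fiberι ξ z) = ξ from this]
    exact hξ
  let σ := ((f.fiberι ξ).appLE (f ⁻¹ᵁ U) ⊤ hle).hom
  let e' : S.functionField →+* Γ(f.fiber ξ, ⊤) :=
    ((S.residue ξ ≫ (Scheme.ΓSpecIso (S.residueField ξ)).inv ≫ (f.fiberToSpecResidueField ξ).appTop)).hom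
  have he' : Function.Bijective e' := by
    have hres : Function.Bijective (S.residue ξ) :=
      ⟨RingHom.injective (S.residue ξ).hom, S.residue_surjective ξ⟩
    simp only [e', CommRingCat.hom_comp, RingHom.coe_comp]
    exact (h0.comp (ConcreteCategory.bijective_of_isIso _)).comp hres
  have hcompat : ∀ a, σ (f.app U a) = e' (S.presheaf.germ U ξ hξ a) := by
    have hU' : (⊤ : (Spec (S.residueField ξ)).Opens) ≤ S.fromSpecResidueField ξ ⁻¹ᵁ U := fun z _ => by
      show S.fromSpecResidueField ξ z ∈ U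
      have : S.fromSpecResidueField ξ z ∈ ({ξ} : Set S) := S.range_fromSpecResidueField ξ ▸ Set.mem_range_self z
      rw [show S.fromSpecResidueField ξ z = ξ from this]
      exact hξ
    have h1 : (S.fromSpecResidueField ξ).appLE U ⊤ hU' =
        S.presheaf.germ U ξ hξ ≫ S.residue ξ ≫ (Scheme.ΓSpecIso (S.residueField ξ)).inv := by
      rw [show (S.fromSpecResidueField ξ).appLE U ⊤ hU' = (Spec.map (S.residue ξ) ≫ S.fromSpecStalk ξ).appLE U ⊤ hU' from rfl,
        Scheme.Hom.comp_appLE, S.fromSpecStalk_app hξ]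
      simp only [Category.assoc, Scheme.Hom.map_appLE]
      rw [Scheme.Hom.appLE, show (homOfLE _ : (⊤ : (Spec (S.residueField ξ)).Opens) ⟶ Spec.map (S.residue ξ) ⁻¹ᵁ ⊤) = 𝟙 _ from rfl]
      erw [CategoryTheory.Functor.map_id, Category.comp_id]
      exact congrArg (S.presheaf.germ U ξ hξ ≫ ·) (Scheme.ΓSpecIso_inv_naturality (S.residue ξ)).symm
    have h2 : (f.app U) ≫ (f.fiberι ξ).appLE (f ⁻¹ᵁ U) ⊤ hle =
        (S.fromSpecResidueField ξ).appLE U ⊤ hU' ≫ (f.fiberToSpecResidueField ξ).appTop := by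
      rw [← Scheme.Hom.comp_appLE]
      have key : ∀ (g₁ g₂ : f.fiber ξ ⟶ S) (e₁ : _) (e₂ : _), g₁ = g₂ → g₁.appLE U ⊤ e₁ = g₂.appLE U ⊤ e₂ := by
        rintro g₁ g₂ e₁ e₂ rfl; rfl
      rw [Scheme.Hom.appTop, Scheme.Hom.app_eq_appLE, Scheme.Hom.appLE_comp_appLE]
      exact key _ _ _ _ pullback.condition
    intro a
    show (f.app U ≫ (f.fiberι ξ).appLE (f ⁻¹ᵁ U) ⊤ hle) a = _
    rw [h2, h1]
    rfl
  have hσ : Function.Injective σ := by
    rw [injective_iff_map_eq_zero]
    intro s hs
    rw [← basicOpen_eq_bot_iff]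
    by_contra hne
    obtain ⟨x, hx⟩ := (Set.nonempty_iff_ne_empty.2 fun h => hne (SetLike.coe_injective h))
    have hirr := irreducibleComponent_mem_irreducibleComponents x
    let η := hirr.1.genericPoint
    have hη := hirr.1.isGenericPoint_genericPoint isClosed_irreducibleComponent
    have hηs : η ∈ X.basicOpen s := (hη.specializes mem_irreducibleComponent).mem_open (X.basicOpen s).2 hx
    obtain ⟨z, hz⟩ : η ∈ Set.range (f.fiberι ξ) := by rw [f.range_fiberι]; exact hgen _ hirr η hη
    have : z ∈ (f.fiberι ξ) ⁻¹ᵁ X.basicOpen s := by show f.fiberι ξ z ∈ X.basicOpen s; rwa [hz]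
    have h1 : z ∈ (f.fiber ξ).basicOpen (σ s) := by
      rw [show (f.fiber ξ).basicOpen (σ s) = ⊤ ⊓ f.fiberι ξ ⁻¹ᵁ X.basicOpen s from Scheme.basicOpen_appLE _ _ _ hle s]
      exact ⟨trivial, this⟩
    rw [show σ s = 0 from hs, Scheme.basicOpen_zero] at h1
    exact h1
  have hinj : Function.Injective (f.app U) := fun a b h => by
    have := he'.1 ((hcompat a).symm.trans ((congrArg σ h).trans (hcompat b)))
    exact IsFractionRing.injective Γ(S, U) S.functionField this
  refine ⟨hinj, fun b => ?_⟩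
  letI := (f.app U).hom.toAlgebra
  have hint : IsIntegral Γ(S, U) b := by
    haveI : IsAffine U.toScheme := hU
    haveI : UniversallyClosed (f ∣_ U) := MorphismProperty.of_isPullback (isPullback_morphismRestrict f U).flip inferInstance
    have h1 := isIntegral_appTop_of_universallyClosed (f ∣_ U)
    rw [← Scheme.Hom.resLE_eq_morphismRestrict, RingHom.isIntegral_respectsIso.arrow_mk_iso_iff (arrowResLEAppIso f _ _ le_rfl), Scheme.Hom.appLE_eq_app] at h1
    exact h1 b
  obtain ⟨c, hc⟩ := he'.2 (σ b)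
  have hcint : IsIntegral Γ(S, U) c := by
    obtain ⟨p, hp, hpb⟩ := hint
    refine ⟨p, hp, he'.1 ?_⟩
    rw [map_zero, Polynomial.hom_eval₂, hc, show e'.comp (algebraMap Γ(S, U) S.functionField) = σ.comp (algebraMap Γ(S, U) Γ(X, f ⁻¹ᵁ U)) from RingHom.ext fun a => (hcompat a).symm,
      ← Polynomial.hom_eval₂, hpb, map_zero]
  obtain ⟨a, ha⟩ := IsIntegrallyClosed.algebraMap_eq_of_integral hcint
  refine ⟨a, hσ ?_⟩
  rw [hcompat, ← hc, ← ha]
  rfl

theorem isIso_app {X S : Scheme.{u}} (f : X ⟶ S) [IsProper f] [IsIntegral S] (hS : Pi1.IsNormalScheme S) [IsReduced X]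
    (hgen : ∀ Z ∈ irreducibleComponents ↑X, ∀ x : X, IsGenericPoint x Z → f x = genericPoint ↑S)
    (h0 : Function.Bijective ((f.fiberToSpecResidueField (genericPoint ↑S)).appTop)) (W : S.Opens) : IsIso (f.app W) :=
  FlatMisc.isIso_app_of_bijective_affine f (fun z => by
    obtain ⟨A, hA, hzA, -⟩ := exists_isAffineOpen_mem_and_subset (x := z) (U := ⊤) trivial
    haveI : Nonempty A := ⟨⟨z, hzA⟩⟩
    exact ⟨A, hA, hzA, bijective_app_affine f hS hgen h0 A hA⟩) W

theorem geometricallyConnected {X S : Scheme.{u}} (f : X ⟶ S) [IsProper f] (hO : ∀ W : S.Opens, IsIso (f.app W)) :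
    GeometricallyConnected f := by
  haveI := ZarConn.isIso_fromNormalization f fun W =>
    haveI := hO W
    ConcreteCategory.bijective_of_isIso (f.app W)
  haveI := (Groth.Agent.S0388.result f).1
  have h := (MorphismProperty.cancel_right_of_respectsIso @GeometricallyConnected f.toNormalization f.fromNormalization).2 inferInstance
  rwa [f.toNormalization_fromNormalization] at h

end Groth.Agent.NormalH0
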